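import Groth.Agent.WeylEt.Rep
import Groth.Agent.MultQuot.CentQuot
import Groth.Agent.FpqcDescLib.Group
import Groth.Agent.S5248

/-!
# The quotient of the normaliser by the centraliser
-/

universe u

open CategoryTheory CategoryTheory.Limits MonoidalCategory CartesianMonoidalCategory MonObj AlgebraicGeometry
open TopologicalSpace

set_option backward.isDefEq.respectTransparency false
set_option backward.isDefEq.respectTransparency.types false
set_option synthInstance.maxHeartbeats 80000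
set_option linter.style.haveILetI false

noncomputable section

namespace Groth.Agent.WeylEt

variable {S : Scheme.{u}}

/-- Two normalisers are isomorphic. -/
theorem exists_iso_normalizer {H G N N' : Over S} [GrpObj H] [GrpObj G] [GrpObj N] [GrpObj N'] {i : H ⟶ G}
    {k : N ⟶ G} {k' : N' ⟶ G} (hk : Red.IsNormalizerOf i k) (hk' : Red.IsNormalizerOf i k') :
    ∃ e : N ≅ N', e.hom ≫ k' = k := by
  haveI := hk.2.1
  haveI := hk'.2.1
  obtain ⟨a, ha⟩ := (hk'.2.2 N k).mpr ((hk.2.2 N k).mp ⟨𝟙 N, Category.id_comp k⟩)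
  obtain ⟨b, hb⟩ := (hk.2.2 N' k').mpr ((hk'.2.2 N' k').mp ⟨𝟙 N', Category.id_comp k'⟩)
  exact ⟨⟨a, b, by rw [← cancel_mono k, Category.assoc, hb, ha, Category.id_comp],
    by rw [← cancel_mono k', Category.assoc, ha, hb, Category.id_comp]⟩, ha⟩

set_option maxHeartbeats 1000000 in
/-- The Weyl group of a subgroup of multiplicative type. -/
theorem main {H G Z N : Over S} [GrpObj H] [GrpObj G] [GrpObj Z] [GrpObj N] (hH : SGA3x.IsMultTypeFT H)
    [Smooth G.hom] [IsAffineHom G.hom] (i : H ⟶ G) [IsMonHom i] [Mono i] (j : Z ⟶ G) (k : N ⟶ G)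
    (hj : Red.IsCentralizerOf i j) (hk : Red.IsNormalizerOf i k) (f : Z ⟶ N) [IsMonHom f] (hf : f ≫ k = j) :
    ∃ (W : Over S) (_ : GrpObj W) (q : N ⟶ W) (_ : IsMonHom q), RedSub.IsQuotient f q ∧
      IsSeparated W.hom ∧ Etale W.hom ∧ QuasiCompact W.hom := by
  haveI := hk.1
  haveI := hk.2.1
  haveI := hj.2.1
  -- the normaliser is smooth and quasi-compact
  obtain ⟨N₀, _, k₀, hk₀, hcl, hsm⟩ := Groth.Agent.S5248.result H G hH ‹_› ‹_› i
  obtain ⟨e, he⟩ := exists_iso_normalizer hk hk₀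
  haveI : IsIso e.hom.left := inferInstanceAs (IsIso ((Over.forget S).mapIso e).hom)
  haveI : Smooth N.hom := by
    rw [← Over.w e.hom]
    exact MorphismProperty.comp_mem @Smooth _ _ inferInstance hsm
  haveI : QuasiCompact N.hom := by
    rw [← Over.w e.hom, ← Over.w k₀]
    haveI := hcl
    infer_instance
  -- the orbit map
  obtain ⟨A, υ, hA, hAs, hAe⟩ := exists_representsHom H H hH hH
  let gN : H ⊗ N ⟶ G := snd H N ≫ k
  obtain ⟨θ, hθ⟩ : ∃ θ : H ⊗ N ⟶ H, θ ≫ i = gN * (fst H N ≫ i) * gN⁻¹ := by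
    obtain ⟨⟨t, ht⟩, -⟩ := (hk.2.2 N k).mp ⟨𝟙 N, Category.id_comp k⟩ _ (snd H N) (fst H N)
    exact ⟨t, ht.symm⟩
  have hθf : AutFam.IsHomFamily H H θ := fun X g₁ g₂ t => by
    rw [← cancel_mono i, MonObj.mul_comp]
    simp only [Category.assoc, hθ, gN, MonObj.comp_mul, GrpObj.comp_inv, lift_snd_assoc, lift_fst_assoc,
      MonObj.mul_comp]
    group
  obtain ⟨a, ha, -⟩ := hA.2 N θ hθf
  have haval : ∀ {X : Over S} (g : X ⟶ N) (h : X ⟶ H),
      lift h (g ≫ a) ≫ υ ≫ i = (g ≫ k) * (h ≫ i) * (g ≫ k)⁻¹ := fun {X} g h => by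
    have e1 : lift h g ≫ (H ◁ a) ≫ υ = lift h g ≫ θ := congrArg (lift h g ≫ ·) ha
    rw [lift_whiskerLeft_assoc] at e1
    rw [← Category.assoc, e1, Category.assoc, hθ]
    simp [gN, MonObj.comp_mul, GrpObj.comp_inv]
  have hiff : ∀ {X : Over S} (g g' : X ⟶ N), g ≫ a = g' ≫ a ↔ ∃ z : X ⟶ Z, z ≫ f = g⁻¹ * g' := fun {X} g g' => by
    constructor
    · intro he'
      obtain ⟨z, hz⟩ := (hj.2.2 X ((g⁻¹ * g') ≫ k)).mpr fun X' x h => by
        have h1 := haval (x ≫ g) h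
        have h2 := haval (x ≫ g') h
        rw [show (x ≫ g) ≫ a = (x ≫ g') ≫ a by rw [Category.assoc, he', Category.assoc], h2] at h1
        rw [MonObj.mul_comp, GrpObj.inv_comp, MonObj.comp_mul, GrpObj.comp_inv, ← Category.assoc, ← Category.assoc]
        refine mul_left_cancel (a := (x ≫ g) ≫ k) (mul_right_cancel (b := ((x ≫ g') ≫ k)⁻¹) ?_)
        simp only [← _root_.mul_assoc, mul_inv_cancel, _root_.one_mul]
        rw [h1]
        group
      exact ⟨z, by rw [← cancel_mono k, Category.assoc, hf, hz]⟩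
    · rintro ⟨z, hz⟩
      obtain ⟨u, hu, -⟩ := hA.2 X (lift (fst H X) (snd H X ≫ g ≫ a) ≫ υ) fun X' g₁ g₂ t => by
        simpa only [comp_lift_assoc, lift_fst, lift_snd_assoc] using hA.1 X' g₁ g₂ (t ≫ g ≫ a)
      have hc := (hj.2.2 X (z ≫ j)).mp ⟨z, rfl⟩
      refine (hA.2 X (lift (fst H X) (snd H X ≫ g ≫ a) ≫ υ) fun X' g₁ g₂ t => by
        simpa only [comp_lift_assoc, lift_fst, lift_snd_assoc] using hA.1 X' g₁ g₂ (t ≫ g ≫ a)).unique
        (by rw [← Category.id_comp (H ◁ (g ≫ a) ≫ υ), ← lift_fst_snd, lift_whiskerLeft_assoc]) ?_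
      rw [← cancel_mono i, show g' = g * (z ≫ f) by rw [hz, mul_inv_cancel_left],
        Category.assoc, ← Category.id_comp (H ◁ _ ≫ _), ← lift_fst_snd, lift_whiskerLeft_assoc, Category.assoc,
        ← Category.assoc (snd H X), ← Category.assoc (snd H X) g, haval, haval, MonObj.comp_mul, MonObj.mul_comp,
        Category.assoc (snd H X) (z ≫ f) k, Category.assoc z f k, hf,
        show ∀ p q h : H ⊗ X ⟶ G, q * h = h * q → p * q * h * (p * q)⁻¹ = p * h * p⁻¹ from
          fun p q h hqh => by rw [_root_.mul_assoc p q h, hqh]; group]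
      exact hc _ (snd H X) (fst H X)
  -- the image
  haveI := hAs
  haveI := hAe
  haveI : Smooth (a.left ≫ A.hom) := by rw [Over.w a]; infer_instance
  haveI : Smooth a.left := by
    let l : N.left ⟶ pullback N.hom A.hom := pullback.lift (𝟙 _) a.left (by rw [Category.id_comp, Over.w a])
    haveI : Etale (pullback.fst N.hom A.hom) := inferInstance
    haveI h1 : Etale (l ≫ pullback.fst N.hom A.hom) := by rw [pullback.lift_fst]; infer_instance
    haveI : Etale l := MorphismProperty.of_postcomp (W := @Etale) (W' := @Etale) l _ ‹Etale (pullback.fst N.hom A.hom)› h1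
    haveI : Smooth (pullback.snd N.hom A.hom) := inferInstance
    rw [← pullback.lift_snd (f := N.hom) (g := A.hom) (𝟙 _) a.left (by rw [Category.id_comp, Over.w a])]
    exact inferInstanceAs (Smooth (l ≫ pullback.snd N.hom A.hom))
  let U : A.left.Opens := ⟨Set.range a.left, a.left.isOpenMap.isOpen_range⟩
  let W : Over S := Over.mk (U.ι ≫ A.hom)
  let q₀ := IsOpenImmersion.lift U.ι a.left U.range_ι.ge
  have hq₀ : q₀ ≫ U.ι = a.left := IsOpenImmersion.lift_fac _ _ _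
  let q : N ⟶ W := Over.homMk q₀ (by show q₀ ≫ U.ι ≫ A.hom = _; rw [reassoc_of% hq₀, Over.w a])
  let inc : W ⟶ A := Over.homMk U.ι rfl
  have hinc : q ≫ inc = a := Over.OverMorphism.ext hq₀
  haveI : Mono inc := Over.mono_of_mono_left _
  haveI : Smooth q.left := by
    show Smooth q₀
    haveI hs : Smooth (q₀ ≫ U.ι) := by rw [hq₀]; infer_instance
    exact MorphismProperty.of_postcomp (W := @Smooth) (W' := @IsOpenImmersion) q₀ U.ι inferInstance hs
  haveI : Surjective q.left := ⟨fun x => by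
    obtain ⟨y, hy⟩ : U.ι x ∈ Set.range a.left := U.range_ι.le ⟨x, rfl⟩
    exact ⟨y, U.ι.isOpenEmbedding.injective (by
      exact (Scheme.Hom.comp_apply q₀ U.ι y).symm.trans ((congrArg (fun m : N.left ⟶ A.left => m y) hq₀).trans hy))⟩⟩
  have hiff' : ∀ {X : Over S} (g g' : X ⟶ N), g ≫ q = g' ≫ q ↔ ∃ z : X ⟶ Z, z ≫ f = g⁻¹ * g' := fun {X} g g' => by
    rw [← cancel_mono inc, Category.assoc, Category.assoc, hinc, hiff]
  haveI : Mono f := by
    haveI : Mono (f ≫ k) := by rw [hf]; infer_instance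
    exact mono_of_mono f k
  have hq : RedSub.IsQuotient f q := by
    refine ⟨‹_›, inferInstance, inferInstance, ?_⟩
    have hw : fst N Z ≫ q = ((N ◁ f) ≫ μ[N]) ≫ q :=
      (hiff' _ _).mpr ⟨snd N Z, by rw [MultQuot.whiskerLeft_mul, inv_mul_cancel_left]⟩
    choose z hz using fun s : PullbackCone q q => (hiff' s.fst s.snd).mp s.condition
    refine ⟨⟨hw⟩, ⟨PullbackCone.IsLimit.mk hw (fun s => lift s.fst (z s)) (fun s => lift_fst _ _) (fun s => ?_)
      fun s m hm₁ hm₂ => ?_⟩⟩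
    · rw [MultQuot.whiskerLeft_mul, MonObj.comp_mul, lift_fst, lift_snd_assoc, hz, mul_inv_cancel_left]
    · apply CartesianMonoidalCategory.hom_ext
      · rw [lift_fst, hm₁]
      · rw [lift_snd, ← cancel_mono f, hz]
        rw [MultQuot.whiskerLeft_mul, MonObj.comp_mul, hm₁] at hm₂
        rw [← hm₂, inv_mul_cancel_left, Category.assoc]
  have hn : AlgGrp.IsNormalHom f := fun T g z => by
    obtain ⟨z', hz'⟩ := (hj.2.2 T ((g * (z ≫ f) * g⁻¹) ≫ k)).mpr fun X' x h => by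
      obtain ⟨-, t, ht⟩ := (hk.2.2 T (g ≫ k)).mp ⟨g, rfl⟩ X' x h
      have hc := (hj.2.2 T (z ≫ j)).mp ⟨z, rfl⟩ X' x t
      rw [← ht] at hc
      simp only [MonObj.mul_comp, GrpObj.inv_comp, Category.assoc, hf, MonObj.comp_mul, GrpObj.comp_inv]
      calc (x ≫ g ≫ k) * (x ≫ z ≫ j) * (x ≫ g ≫ k)⁻¹ * (h ≫ i)
          = (x ≫ g ≫ k) * ((x ≫ z ≫ j) * ((x ≫ g ≫ k)⁻¹ * (h ≫ i) * (x ≫ g ≫ k))) * (x ≫ g ≫ k)⁻¹ := by group
        _ = (x ≫ g ≫ k) * (((x ≫ g ≫ k)⁻¹ * (h ≫ i) * (x ≫ g ≫ k)) * (x ≫ z ≫ j)) * (x ≫ g ≫ k)⁻¹ := by rw [hc]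
        _ = (h ≫ i) * ((x ≫ g ≫ k) * (x ≫ z ≫ j) * (x ≫ g ≫ k)⁻¹) := by group
    exact ⟨z', by rw [← cancel_mono k, Category.assoc, hf, hz']⟩
  obtain ⟨str, hstr⟩ := FpqcDescLib.exists_grpObj (MultQuot.covers_quot hq)
    (FpqcDescLib.isCosetMap_of_isPullback hq.2.2.2) hn
  haveI : Etale W.hom := MorphismProperty.comp_mem @Etale _ _ (inferInstanceAs (Etale U.ι)) hAe
  haveI : IsSeparated W.hom := MorphismProperty.comp_mem @IsSeparated _ _ (inferInstanceAs (IsSeparated U.ι)) hAs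
  refine ⟨W, str, q, hstr, hq, inferInstance, inferInstance, ?_⟩
  haveI : QuasiCompact (q.left ≫ W.hom) := by rw [Over.w q]; infer_instance
  refine ⟨fun V hVo hVc => ?_⟩
  rw [← Set.image_preimage_eq (W.hom ⁻¹' V) q.left.surjective]
  refine IsCompact.image ?_ q.left.continuous
  have h := QuasiCompact.isCompact_preimage (f := q.left ≫ W.hom) V hVo hVc
  rwa [Scheme.Hom.comp_base, TopCat.coe_comp, Set.preimage_comp] at h

end Groth.Agent.WeylEt
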