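import Groth.Agent.HomRepLib.FiniteRep
import Groth.Agent.HomRepLib.LocalRep
import Groth.Agent.MultTypeQI.EtaleLocal
import Groth.Agent.TwConstEtLib.Components
import Groth.Agent.EtFound.Descent
import Groth.Prelude.Def_AutFam
import Mathlib.AlgebraicGeometry.Morphisms.Etale

/-!
# Homomorphisms between groups of multiplicative type form a separated etale scheme
-/

universe u

open CategoryTheory MonoidalCategory CartesianMonoidalCategory MonObj GrpObj AlgebraicGeometry

set_option autoImplicit false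

set_option linter.style.haveILetI false

noncomputable section

namespace Groth.Agent.WeylEt

/-- The scheme of homomorphisms between groups of multiplicative type is separated and etale. -/
theorem exists_representsHom {S : Scheme.{u}} (G H : Over S) [GrpObj G] [GrpObj H]
    (hG : SGA3x.IsMultTypeFT G) (hH : SGA3x.IsMultTypeFT H) :
    ∃ (A : Over S) (υ : G ⊗ A ⟶ H), AutFam.RepresentsHom G H A υ ∧ IsSeparated A.hom ∧ Etale A.hom := by
  choose U₁ f₁ hf₁ hs₁ M iM hMfg he₁ using MultTypeQI.etale_locally_diag hG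
  choose U₂ f₂ hf₂ hs₂ N iN hNfg he₂ using MultTypeQI.etale_locally_diag hH
  let U : ↥S → Scheme.{u} := fun s => Limits.pullback (f₁ s) (f₂ s)
  let f : ∀ s, U s ⟶ S := fun s => Limits.pullback.fst (f₁ s) (f₂ s) ≫ f₁ s
  haveI : ∀ s, Etale (f s) := fun s => by
    haveI := hf₁ s
    haveI := hf₂ s
    infer_instance
  have hf : ∀ x : S, x ∈ Set.range (f x) := fun x => by
    obtain ⟨a, ha⟩ := hs₁ x
    obtain ⟨b, hb⟩ := hs₂ x
    obtain ⟨p, hp, -⟩ := Scheme.Pullback.exists_preimage_pullback a b (ha.trans hb.symm)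
    exact ⟨p, by rw [Scheme.Hom.comp_apply, hp]; exact ha⟩
  have e₁ := fun s => (HomRepLib.diag_bc (Limits.pullback.fst (f₁ s) (f₂ s)) (he₁ s).some).some
  have e₂ : ∀ s, Grp.mk (Red.bc (f s) H) ≅ Grp.mk (Red.DS (U s) (N s)) := fun s =>
    (GrpSchLib.MultTypeBC.bc_congr Limits.pullback.condition H).some ≪≫
      (HomRepLib.diag_bc (Limits.pullback.snd (f₁ s) (f₂ s)) (he₂ s).some).some
  choose υ₀ hυ₀ hpt using fun s => haveI := hNfg s; HomRepLib.exists_representsHom_DS (U s) (M s) (N s)
  obtain ⟨A, υ, hA, hloc⟩ := HomRepLib.exists_representsHom_etale f (fun x => ⟨x, hf x⟩)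
    (fun s => ULift.{u} (N s →+ M s)) _ (fun s => HomRepLib.representsHom_of_iso (e₁ s) (e₂ s) (hυ₀ s))
  refine ⟨A, υ, hA, ?_, TwConstEtLib.etale_hom A fun s => ⟨U s, f s, inferInstance, hf s,
    ULift.{u} (N s →+ M s), ⟨(hloc s).choose⟩⟩⟩
  haveI := EtFound.fpqc_isSeparated.{u}
  refine HomRepLib.prop_of_etale_cover @IsSeparated f (fun x => ⟨x, hf x⟩) A.hom fun s => ?_
  obtain ⟨e, -⟩ := hloc s
  show IsSeparated (Red.bc (f s) A).hom
  rw [← Over.w e.hom]
  exact MorphismProperty.comp_mem @IsSeparated _ _ (inferInstanceAs (IsSeparated e.hom.left))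
    (HomRepLib.isSeparated_const _)

end Groth.Agent.WeylEt
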